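import Mathlib
import Cfsg.Agent.Lib.Helper8.PG.Defs

/-!
# PG package [FIXB]: the fixed space of an isometry for which `1` is a simple root of the
characteristic polynomial is a non-singular line.
-/

set_option autoImplicit false

namespace Cfsg.Agent.Lib.Helper59.PG

open Matrix Polynomial

universe u

/-- polar form is invariant under an isometry given by a matrix -/
theorem polar_mulVec_isom {F : Type u} [Field F] {ι : Type} [Fintype ι] [DecidableEq ι]
    (Q : QuadraticForm F (ι → F)) (t : Matrix ι ι F) (ht : ∀ v, Q (t *ᵥ v) = Q v)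
    (x y : ι → F) : QuadraticMap.polar Q (t *ᵥ x) (t *ᵥ y) = QuadraticMap.polar Q x y := by
  unfold QuadraticMap.polar
  rw [← Matrix.mulVec_add, ht, ht, ht]

/-- powers of an isometry are isometries -/
theorem isom_pow {F : Type u} [Field F] {ι : Type} [Fintype ι] [DecidableEq ι]
    (Q : QuadraticForm F (ι → F)) (t : Matrix ι ι F) (ht : ∀ v, Q (t *ᵥ v) = Q v)
    (i : ℕ) (v : ι → F) : Q ((t ^ i) *ᵥ v) = Q v := by
  induction i generalizing v with
  | zero => simp
  | succ i ih =>
    rw [pow_succ, ← Matrix.mulVec_mulVec, ih, ht]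

theorem pkgFixB : Cfsg.Agent.Lib.Helper8.PG.PkgFixB.{u} := by
  intro F _ h2 ι _ _ Q hQ t ht N hN htN hmult
  classical
  -- eigenvector
  have hroot : t.charpoly.IsRoot 1 := by
    have hne : t.charpoly ≠ 0 := (Matrix.charpoly_monic t).ne_zero
    have : 0 < t.charpoly.rootMultiplicity 1 := by omega
    exact (Polynomial.rootMultiplicity_pos hne).1 this
  have hdet : (1 - t).det = 0 := by
    have := Matrix.eval_charpoly t (1 : F)
    rw [hroot] at this
    simpa using this.symm
  obtain ⟨v₀, hv₀, hv₀t⟩ := Matrix.exists_mulVec_eq_zero_iff.2 hdet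
  have hv₀fix : t *ᵥ v₀ = v₀ := by
    rw [Matrix.sub_mulVec, Matrix.one_mulVec, sub_eq_zero] at hv₀t
    exact hv₀t.symm
  -- the fixed space has dimension at most one
  set φ : Module.End F (ι → F) := Matrix.toLin' t with hφ
  have hfin : Module.finrank F (φ.maxGenEigenspace 1) = 1 := by
    rw [LinearMap.finrank_maxGenEigenspace_eq, hφ, Matrix.charpoly_toLin', hmult]
  have hle : Module.End.eigenspace φ 1 ≤ φ.maxGenEigenspace 1 := by
    intro x hx
    rw [Module.End.mem_maxGenEigenspace]
    refine ⟨1, ?_⟩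
    rw [Module.End.mem_eigenspace_iff] at hx
    simp [hx]
  have hmemE : ∀ w : ι → F, t *ᵥ w = w → w ∈ Module.End.eigenspace φ 1 := by
    intro w hw
    rw [Module.End.mem_eigenspace_iff, hφ, Matrix.toLin'_apply, hw, one_smul]
  have hline : ∀ w, t *ᵥ w = w → ∃ c : F, w = c • v₀ := by
    intro w hw
    have h0 : (⟨v₀, hle (hmemE v₀ hv₀fix)⟩ : φ.maxGenEigenspace 1) ≠ 0 := by
      intro h
      exact hv₀ (congrArg Subtype.val h)
    obtain ⟨c, hc⟩ := (finrank_eq_one_iff_of_nonzero' _ h0).1 hfin ⟨w, hle (hmemE w hw)⟩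
    refine ⟨c, ?_⟩
    have := congrArg Subtype.val hc
    simpa using this.symm
  refine ⟨v₀, ?_, hv₀fix, hline⟩
  -- non-singularity by averaging
  intro hQ0
  have hpow_fix : ∀ i : ℕ, (t ^ i) *ᵥ v₀ = v₀ := by
    intro i
    induction i with
    | zero => simp
    | succ i ih => rw [pow_succ, ← Matrix.mulVec_mulVec, hv₀fix, ih]
  have hzero : ∀ w, QuadraticMap.polar Q v₀ w = 0 := by
    intro w
    set w' : ι → F := ∑ i ∈ Finset.range N, (t ^ i) *ᵥ w with hw'
    have hw'fix : t *ᵥ w' = w' := by
      have h1 : t *ᵥ w' = ∑ i ∈ Finset.range N, (t ^ (i + 1)) *ᵥ w := by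
        rw [hw', Matrix.mulVec_sum]
        refine Finset.sum_congr rfl ?_
        intro i _
        rw [Matrix.mulVec_mulVec, ← pow_succ']
      rw [h1, hw']
      have ha := Finset.sum_range_succ (fun i => (t ^ i) *ᵥ w) N
      have hb := Finset.sum_range_succ' (fun i => (t ^ i) *ᵥ w) N
      rw [ha] at hb
      simp only [htN, pow_zero] at hb
      exact (add_right_cancel hb).symm
    obtain ⟨c, hc⟩ := hline w' hw'fix
    have h3 : QuadraticMap.polar Q v₀ w' = (N : F) * QuadraticMap.polar Q v₀ w := by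
      have hb : ∀ x, QuadraticMap.polar Q v₀ x = QuadraticMap.polarBilin Q v₀ x := fun _ => rfl
      rw [hb, hw', map_sum]
      have : ∀ i ∈ Finset.range N, QuadraticMap.polarBilin Q v₀ ((t ^ i) *ᵥ w)
          = QuadraticMap.polar Q v₀ w := by
        intro i _
        have := polar_mulVec_isom Q (t ^ i) (isom_pow Q t ht i) v₀ w
        rw [hpow_fix i] at this
        exact this
      rw [Finset.sum_congr rfl this]
      simp
    have h4 : QuadraticMap.polar Q v₀ w' = 0 := by
      rw [hc, QuadraticMap.polar_smul_right, QuadraticMap.polar_self, hQ0]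
      simp
    rw [h4] at h3
    rcases mul_eq_zero.1 h3.symm with h | h
    · exact absurd h hN
    · exact h
  exact hv₀ (hQ.1 v₀ hzero)

end Cfsg.Agent.Lib.Helper59.PG
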