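import Mathlib
import Cfsg.Agent.Lib.Helper8.PG.Defs
import Cfsg.Agent.Lib.Helper59.PG.FixB

/-!
# PG package [ZSTR]: an involution of determinant one commuting with `t` is `1` on the fixed
line of `t` and `-1` on its orthogonal complement.
-/

set_option autoImplicit false

namespace Cfsg.Agent.Lib.Helper59.PG

open Matrix Polynomial

universe u

section

variable {F : Type u} [Field F] {ι : Type} [Fintype ι] [DecidableEq ι]

/-- the `1`- and `-1`-eigenvectors of an isometry are orthogonal -/
theorem polar_eq_zero_of_eigen (h2 : (2 : F) ≠ 0) (Q : QuadraticForm F (ι → F))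
    (z : Matrix ι ι F) (hz : ∀ v, Q (z *ᵥ v) = Q v) (x y : ι → F) (hx : z *ᵥ x = x)
    (hy : z *ᵥ y = -y) : QuadraticMap.polar Q x y = 0 := by
  have h := polar_mulVec_isom Q z hz x y
  rw [hx, hy, QuadraticMap.polar_neg_right] at h
  have h' : (2 : F) * QuadraticMap.polar Q x y = 0 := by linear_combination (-1 : F) * h
  exact (mul_eq_zero.1 h').resolve_left h2

/-- a matrix all of whose products with vectors vanish is zero -/
theorem matrix_eq_zero_of_mulVec (A : Matrix ι ι F) (h : ∀ w, A *ᵥ w = 0) : A = 0 := by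
  ext a b
  have := congrFun (h (Pi.single b 1)) a
  rw [Matrix.mulVec_single_one] at this
  simpa using this

/-- facts on the idempotents `(1 ± z) / 2` of an involution `z` -/
theorem idem_facts (h2 : (2 : F) ≠ 0) (z : Matrix ι ι F) (hzz : z * z = 1)
    (ep em : Matrix ι ι F) (hep : ep = (2 : F)⁻¹ • (1 + z)) (hem : em = (2 : F)⁻¹ • (1 - z)) :
    ep + em = 1 ∧ z * ep = ep ∧ z * em = -em ∧ ep * ep = ep ∧ em * em = em ∧ ep * em = 0 ∧
      em * ep = 0 := by
  have hsum : ep + em = 1 := by
    rw [hep, hem, ← smul_add]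
    have : (1 + z) + (1 - z) = (2 : F) • (1 : Matrix ι ι F) := by
      rw [two_smul]; abel
    rw [this, smul_smul, inv_mul_cancel₀ h2, one_smul]
  have hzep : z * ep = ep := by
    rw [hep, Matrix.mul_smul, Matrix.mul_add, Matrix.mul_one, hzz, add_comm]
  have hzem : z * em = -em := by
    rw [hem, Matrix.mul_smul, Matrix.mul_sub, Matrix.mul_one, hzz, ← smul_neg, neg_sub]
  have hepep : ep * ep = ep := by
    have : ep * ep = (2 : F)⁻¹ • ((1 + z) * ep) := by
      rw [← Matrix.smul_mul, ← hep]
    rw [this, Matrix.add_mul, Matrix.one_mul, hzep, ← two_smul F ep, smul_smul,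
      inv_mul_cancel₀ h2, one_smul]
  have hemem : em * em = em := by
    have : em * em = (2 : F)⁻¹ • ((1 - z) * em) := by
      rw [← Matrix.smul_mul, ← hem]
    rw [this, Matrix.sub_mul, Matrix.one_mul, hzem, sub_neg_eq_add, ← two_smul F em, smul_smul,
      inv_mul_cancel₀ h2, one_smul]
  have hepem : ep * em = 0 := by
    have : ep * em = (2 : F)⁻¹ • ((1 + z) * em) := by
      rw [← Matrix.smul_mul, ← hep]
    rw [this, Matrix.add_mul, Matrix.one_mul, hzem, add_neg_cancel, smul_zero]
  have hemep : em * ep = 0 := by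
    have : em * ep = (2 : F)⁻¹ • ((1 - z) * ep) := by
      rw [← Matrix.smul_mul, ← hem]
    rw [this, Matrix.sub_mul, Matrix.one_mul, hzep, sub_self, smul_zero]
  exact ⟨hsum, hzep, hzem, hepep, hemem, hepem, hemep⟩

/-- `t * ep + em` is an isometry with the same `s`-th power behaviour, fixing the range of
`em`. -/
theorem split_isom (h2 : (2 : F) ≠ 0) (Q : QuadraticForm F (ι → F)) (z t ep em : Matrix ι ι F)
    (hz : ∀ v, Q (z *ᵥ v) = Q v) (ht : ∀ v, Q (t *ᵥ v) = Q v)
    (hsum : ep + em = 1) (hzep : z * ep = ep) (hzem : z * em = -em)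
    (hepep : ep * ep = ep) (hemem : em * em = em) (hepem : ep * em = 0) (hemep : em * ep = 0)
    (htep : t * ep = ep * t) (htem : t * em = em * t) (hcomm : z * t = t * z)
    (s : ℕ) (hts : t ^ s = 1) :
    (∀ v, Q ((t * ep + em) *ᵥ v) = Q v) ∧ (t * ep + em) ^ s = 1 ∧ (t * ep + em) * em = em := by
  refine ⟨?_, ?_, ?_⟩
  · intro v
    have hzta : z *ᵥ (t *ᵥ (ep *ᵥ v)) = t *ᵥ (ep *ᵥ v) := by
      have e0 : z * t * ep = t * ep := by rw [hcomm, Matrix.mul_assoc, hzep]
      rw [Matrix.mulVec_mulVec, Matrix.mulVec_mulVec, Matrix.mulVec_mulVec, e0]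
    have hza : z *ᵥ (ep *ᵥ v) = ep *ᵥ v := by rw [Matrix.mulVec_mulVec, hzep]
    have hzb : z *ᵥ (em *ᵥ v) = -(em *ᵥ v) := by
      rw [Matrix.mulVec_mulVec, hzem, Matrix.neg_mulVec]
    have e1 : (t * ep + em) *ᵥ v = t *ᵥ (ep *ᵥ v) + em *ᵥ v := by
      rw [Matrix.add_mulVec, Matrix.mulVec_mulVec]
    have e2 : v = ep *ᵥ v + em *ᵥ v := by
      rw [← Matrix.add_mulVec, hsum, Matrix.one_mulVec]
    rw [e1, QuadraticMap.map_add Q, polar_eq_zero_of_eigen h2 Q z hz _ _ hzta hzb, ht, add_zero]
    conv_rhs => rw [e2]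
    rw [QuadraticMap.map_add Q, polar_eq_zero_of_eigen h2 Q z hz _ _ hza hzb, add_zero]
  · have key : ∀ k : ℕ, (t * ep + em) ^ k = t ^ k * ep + em := by
      intro k
      induction k with
      | zero => rw [pow_zero, pow_zero, Matrix.one_mul, hsum]
      | succ k ih =>
        rw [pow_succ, ih, Matrix.add_mul, Matrix.mul_add, Matrix.mul_add]
        have e1 : t ^ k * ep * (t * ep) = t ^ (k + 1) * ep := by
          rw [Matrix.mul_assoc, ← Matrix.mul_assoc ep t ep, ← htep, Matrix.mul_assoc t ep ep,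
            hepep, ← Matrix.mul_assoc, ← pow_succ]
        have e2 : t ^ k * ep * em = 0 := by rw [Matrix.mul_assoc, hepem, Matrix.mul_zero]
        have e3 : em * (t * ep) = 0 := by
          rw [← Matrix.mul_assoc, ← htem, Matrix.mul_assoc, hemep, Matrix.mul_zero]
        rw [e1, e2, e3, hemem, add_zero, zero_add]
    rw [key, hts, Matrix.one_mul, hsum]
  · rw [Matrix.add_mul, Matrix.mul_assoc, hepem, Matrix.mul_zero, zero_add, hemem]

end

theorem pkgZStr : Cfsg.Agent.Lib.Helper8.PG.PkgZStr.{u} := by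
  intro F _ h2 ι _ _ Q hQ hodd h3 s hfix z t hz ht hzz hz1 hdet hcomm hts ht1 v₀ hQv₀ htv₀
  classical
  obtain ⟨ep, hep⟩ : ∃ ep : Matrix ι ι F, ep = (2 : F)⁻¹ • (1 + z) := ⟨_, rfl⟩
  obtain ⟨em, hem⟩ : ∃ em : Matrix ι ι F, em = (2 : F)⁻¹ • (1 - z) := ⟨_, rfl⟩
  obtain ⟨hsum, hzep, hzem, hepep, hemem, hepem, hemep⟩ := idem_facts h2 z hzz ep em hep hem
  have htep : t * ep = ep * t := by
    rw [hep, Matrix.mul_smul, Matrix.smul_mul, Matrix.mul_add, Matrix.add_mul, Matrix.mul_one,
      Matrix.one_mul, hcomm]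
  have htem : t * em = em * t := by
    rw [hem, Matrix.mul_smul, Matrix.smul_mul, Matrix.mul_sub, Matrix.sub_mul, Matrix.mul_one,
      Matrix.one_mul, hcomm]
  have hdecomp : ∀ w : ι → F, ep *ᵥ w + em *ᵥ w = w := by
    intro w
    rw [← Matrix.add_mulVec, hsum, Matrix.one_mulVec]
  have hzp : ∀ w : ι → F, z *ᵥ (ep *ᵥ w) = ep *ᵥ w := by
    intro w
    rw [Matrix.mulVec_mulVec, hzep]
  have hzm : ∀ w : ι → F, z *ᵥ (em *ᵥ w) = -(em *ᵥ w) := by
    intro w
    rw [Matrix.mulVec_mulVec, hzem, Matrix.neg_mulVec]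
  have hv₀ne : v₀ ≠ 0 := by
    rintro rfl
    exact hQv₀ (map_zero Q)
  by_cases hA : t * ep = ep
  · -- the good case
    obtain ⟨v₁, hQv₁, htv₁, hline⟩ := hfix t ht hts ht1
    obtain ⟨c₀, hc₀⟩ := hline v₀ htv₀
    have hc₀ne : c₀ ≠ 0 := by
      rintro rfl
      rw [zero_smul] at hc₀
      exact hv₀ne hc₀
    have hline0 : ∀ w, t *ᵥ w = w → ∃ c : F, w = c • v₀ := by
      intro w hw
      obtain ⟨c, hc⟩ := hline w hw
      refine ⟨c * c₀⁻¹, ?_⟩
      rw [hc, hc₀, smul_smul, mul_assoc, inv_mul_cancel₀ hc₀ne, mul_one]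
    have hepline : ∀ w, ∃ c : F, ep *ᵥ w = c • v₀ := by
      intro w
      apply hline0
      rw [Matrix.mulVec_mulVec, hA]
    have hep0 : ep ≠ 0 := by
      intro h0
      have hz' : z = -1 := by
        have h1 : (2 : F) • ep = 1 + z := by
          rw [hep, smul_smul, mul_inv_cancel₀ h2, one_smul]
        rw [h0, smul_zero] at h1
        exact eq_neg_of_add_eq_zero_right h1.symm
      rw [hz', Matrix.det_neg, Matrix.det_one, mul_one, Odd.neg_one_pow hodd] at hdet
      have : (2 : F) = 0 := by linear_combination (-1 : F) * hdet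
      exact h2 this
    obtain ⟨w₁, hw₁⟩ : ∃ w, ep *ᵥ w ≠ 0 := by
      by_contra hcon
      exact hep0 (matrix_eq_zero_of_mulVec ep (fun w => by_contra (fun h => hcon ⟨w, h⟩)))
    obtain ⟨d, hd⟩ := hepline w₁
    have hdne : d ≠ 0 := by
      rintro rfl
      rw [zero_smul] at hd
      exact hw₁ hd
    have hzv₀ : z *ᵥ v₀ = v₀ := by
      have h := hzp w₁
      rw [hd, Matrix.mulVec_smul] at h
      exact smul_right_injective _ hdne h
    refine ⟨hzv₀, ?_⟩
    intro w hw
    obtain ⟨c, hc⟩ := hepline w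
    have hdec := hdecomp w
    have h1 : QuadraticMap.polar Q v₀ (em *ᵥ w) = 0 :=
      polar_eq_zero_of_eigen h2 Q z hz v₀ _ hzv₀ (hzm w)
    have h4 : QuadraticMap.polar Q v₀ w = c * ((2 : F) * Q v₀) := by
      conv_lhs => rw [← hdec]
      rw [QuadraticMap.polar_add_right, h1, add_zero, hc, QuadraticMap.polar_smul_right,
        QuadraticMap.polar_self]
      simp [two_mul, two_smul]
    rw [hw] at h4
    have hc0 : c = 0 := by
      rcases mul_eq_zero.1 h4.symm with h | h
      · exact h
      · exact absurd h (mul_ne_zero h2 hQv₀)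
    have hw' : em *ᵥ w = w := by
      rw [hc, hc0, zero_smul, zero_add] at hdec
      exact hdec
    calc z *ᵥ w = z *ᵥ (em *ᵥ w) := by rw [hw']
      _ = -(em *ᵥ w) := hzm w
      _ = -w := by rw [hw']
  · exfalso
    by_cases hB : t * em = em
    · -- `z` would be minus a reflection
      obtain ⟨v₁, hQv₁, htv₁, hline⟩ := hfix t ht hts ht1
      have hv₁ne : v₁ ≠ 0 := by
        rintro rfl
        exact hQv₁ (map_zero Q)
      have hemline : ∀ w, ∃ c : F, em *ᵥ w = c • v₁ := by
        intro w
        apply hline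
        rw [Matrix.mulVec_mulVec, hB]
      choose φ hφ using fun i : ι => hemline (Pi.single i 1)
      have hemform : em = Matrix.replicateCol Unit v₁ * Matrix.replicateRow Unit φ := by
        ext a b
        have := congrFun (hφ b) a
        rw [Matrix.mulVec_single_one] at this
        simp only [Matrix.col_apply, Pi.smul_apply, smul_eq_mul] at this
        rw [this]
        simp [Matrix.mul_apply, mul_comm]
      have hem0 : em ≠ 0 := by
        intro h0
        apply hz1
        have h1 : (2 : F) • em = 1 - z := by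
          rw [hem, smul_smul, mul_inv_cancel₀ h2, one_smul]
        rw [h0, smul_zero] at h1
        exact (sub_eq_zero.1 h1.symm).symm
      have hemv₁ : em *ᵥ v₁ = v₁ := by
        obtain ⟨w₁, hw₁⟩ : ∃ w, em *ᵥ w ≠ 0 := by
          by_contra hcon
          exact hem0 (matrix_eq_zero_of_mulVec em (fun w => by_contra (fun h => hcon ⟨w, h⟩)))
        obtain ⟨d, hd⟩ := hemline w₁
        have hdne : d ≠ 0 := by
          rintro rfl
          rw [zero_smul] at hd
          exact hw₁ hd
        have h : em *ᵥ (em *ᵥ w₁) = em *ᵥ w₁ := by rw [Matrix.mulVec_mulVec, hemem]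
        rw [hd, Matrix.mulVec_smul] at h
        exact smul_right_injective _ hdne h
      have hdot : φ ⬝ᵥ v₁ = 1 := by
        obtain ⟨a, ha⟩ : ∃ a, v₁ a ≠ 0 := by
          by_contra hcon
          apply hv₁ne
          funext a
          by_contra h
          exact hcon ⟨a, h⟩
        have h := congrFun hemv₁ a
        rw [hemform] at h
        have e : ((Matrix.replicateCol Unit v₁ * Matrix.replicateRow Unit φ) *ᵥ v₁) a
            = v₁ a * (φ ⬝ᵥ v₁) := by
          simp [Matrix.mulVec, dotProduct, Matrix.mul_apply, Finset.mul_sum, mul_assoc]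
        rw [e] at h
        exact mul_left_cancel₀ ha (h.trans (mul_one _).symm)
      have hzform : z = 1 + Matrix.replicateCol Unit ((-2 : F) • v₁)
          * Matrix.replicateRow Unit φ := by
        have hz2 : z = 1 - (2 : F) • em := by
          rw [hem, smul_smul, mul_inv_cancel₀ h2, one_smul]
          abel
        rw [hz2, hemform]
        ext a b
        simp [Matrix.mul_apply, Matrix.sub_apply, Matrix.add_apply]
        ring
      rw [hzform, Matrix.det_one_add_replicateCol_mul_replicateRow] at hdet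
      rw [dotProduct_smul, hdot] at hdet
      have : (2 : F) = 0 := by
        have h := hdet
        simp only [smul_eq_mul, mul_one] at h
        linear_combination (-1 : F) * h
      exact h2 this
    · -- both pieces non-trivial: dimension at most two
      obtain ⟨hT1iso, hT1pow, hT1em⟩ := split_isom h2 Q z t ep em hz ht hsum hzep hzem hepep
        hemem hepem hemep htep htem hcomm s hts
      have hT1ne : t * ep + em ≠ 1 := by
        intro h
        apply hA
        rw [← hsum] at h
        exact add_right_cancel h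
      obtain ⟨v₁, -, -, hline1⟩ := hfix _ hT1iso hT1pow hT1ne
      have hz' : ∀ v, Q ((-z) *ᵥ v) = Q v := by
        intro v
        rw [Matrix.neg_mulVec, QuadraticMap.map_neg, hz]
      have hsum' : em + ep = 1 := by rw [add_comm, hsum]
      have hzep' : (-z) * em = em := by rw [Matrix.neg_mul, hzem, neg_neg]
      have hzem' : (-z) * ep = -ep := by rw [Matrix.neg_mul, hzep]
      have hcomm' : (-z) * t = t * (-z) := by rw [Matrix.neg_mul, Matrix.mul_neg, hcomm]
      obtain ⟨hT2iso, hT2pow, hT2ep⟩ := split_isom h2 Q (-z) t em ep hz' ht hsum' hzep' hzem'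
        hemem hepep hemep hepem htem htep hcomm' s hts
      have hT2ne : t * em + ep ≠ 1 := by
        intro h
        apply hB
        rw [← hsum'] at h
        exact add_right_cancel h
      obtain ⟨v₂, -, -, hline2⟩ := hfix _ hT2iso hT2pow hT2ne
      have hspan : ∀ w : ι → F,
          w ∈ Submodule.span F ((({v₁, v₂} : Finset (ι → F)) : Set (ι → F))) := by
        intro w
        obtain ⟨c₁, hc₁⟩ := hline1 (em *ᵥ w) (by rw [Matrix.mulVec_mulVec, hT1em])
        obtain ⟨c₂, hc₂⟩ := hline2 (ep *ᵥ w) (by rw [Matrix.mulVec_mulVec, hT2ep])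
        rw [← hdecomp w, hc₁, hc₂]
        refine Submodule.add_mem _ (Submodule.smul_mem _ _ (Submodule.subset_span (by simp)))
          (Submodule.smul_mem _ _ (Submodule.subset_span (by simp)))
      have htop : Submodule.span F ((({v₁, v₂} : Finset (ι → F)) : Set (ι → F))) = ⊤ :=
        Submodule.eq_top_iff'.2 hspan
      have hfr : Module.finrank F (Submodule.span F ((({v₁, v₂} : Finset (ι → F)) : Set (ι → F))))
          ≤ ({v₁, v₂} : Finset (ι → F)).card :=
        finrank_span_finset_le_card (R := F) ({v₁, v₂} : Finset (ι → F))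
      rw [htop, finrank_top, Module.finrank_fintype_fun_eq_card] at hfr
      have hc2 : ({v₁, v₂} : Finset (ι → F)).card ≤ 2 := Finset.card_le_two
      omega

end Cfsg.Agent.Lib.Helper59.PG
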